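import Groth.Agent.Pic13.H954.SerrePC
import Groth.Agent.Ega3A.PChart
import Groth.Agent.Ega3B.ProjFrame
import Groth.Agent.PerfA.CohExtGlue
import Groth.Agent.PerfC.LpullFlat
import Groth.Agent.PerfC.PerfLocal
import Groth.Agent.Sga67.ClosedPush
import Groth.Agent.Cohder.RelPCMon
import Groth.Agent.S0961
import Groth.Agent.S0922

/-!
# Twisted direct images along closed subschemes of `P^r_Y`, `Y` affine
-/

set_option autoImplicit false

universe u

open CategoryTheory CategoryTheory.Limits AlgebraicGeometry Opposite TopologicalSpace Pretriangulated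

attribute [local instance] HasDerivedCategory.standard

namespace Groth.Agent.Pic13.H954.Assemble

open Groth.Agent Groth.Agent.PerfB Groth.Agent.Dcoh.DerSch
open Groth.Agent.PerfA Groth.Agent.Ega3A.PChart
open TwistDer PcDev PcTop TensD ProjPush ProjBeil ProjTop ExactDevissage

attribute [local instance] rpushCommShift rpush_isTriangulated

section Gen

variable {X Y : Scheme.{u}}

/- Termwise pullback of complexes. -/
local notation "pb(" f ", " K ")" =>
  Functor.obj (Functor.mapHomologicalComplex (Scheme.Modules.pullback f) (ComplexShape.up ℤ)) K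

open Groth.Agent.Cohder.RelPCMon in
/-- The projection formula for an invertible module. -/
theorem nonempty_projInv (f : X ⟶ Y) [DCoh.HasRpush f] {L : Y.Modules} (hL : PicF.IsInvertible L)
    [DCoh.HasLTensorMod L] [DCoh.HasLTensorMod ((Scheme.Modules.pullback f).obj L)] (T : DCoh.D X) :
    Nonempty ((DCoh.LTensorMod L).obj ((DCoh.Rpush f).obj T) ≅
      (DCoh.Rpush f).obj ((DCoh.LTensorMod ((Scheme.Modules.pullback f).obj L)).obj T)) := by
  have h1 := Groth.Agent.PerfC.DTens.hasLTensorCx (sgl L)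
  have h2 := Groth.Agent.PerfC.DTens.hasLTensorCx pb(f, sgl L)
  have h3 := Groth.Agent.PerfC.DTens.hasLTensorCx (sgl ((Scheme.Modules.pullback f).obj L))
  obtain ⟨a⟩ := nonempty_mod L ((DCoh.Rpush f).obj T)
  obtain ⟨b⟩ := nonempty_mod ((Scheme.Modules.pullback f).obj L) T
  have hperf : DCoh.IsPerfect (DerivedCategory.Q.obj (sgl L)) :=
    Groth.Agent.PerfC.PerfLocal.perf_of_iso ((DerivedCategory.singleFunctorIsoCompQ Y.Modules 0).app L)
      (Groth.Agent.PerfA.PerfLocal.isPerfect_inD_of_isFinLocFree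
        (Ega2.QCohLocal.isFinLocFree_of_rank (Ega2.QCohLocal.isFinLocFreeOfRank_one_iff.mpr hL)))
  have hflat : DCoh.IsKFlat (sgl L) :=
    Groth.Agent.Dcoh.KFlatMod.isKFlat_single _ (Groth.Agent.PerfB.TensInv.isFlat_of_isInvertible hL) 0
  obtain ⟨c⟩ := Groth.Agent.S0961.result f (sgl L) hflat hperf T
  let pbSgl : pb(f, sgl L) ≅ sgl ((Scheme.Modules.pullback f).obj L) :=
    (HomologicalComplex.singleMapHomologicalComplex (Scheme.Modules.pullback f)
      (ComplexShape.up ℤ) 0).app L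
  exact ⟨a ≪≫ c ≪≫ (DCoh.Rpush f).mapIso
    ((congrCx (DerivedCategory.Q.mapIso pbSgl)).app T ≪≫ b.symm)⟩

/-- `Ri_*` for a closed immersion preserves upper bounds. -/
theorem isLE_Rpush_closed (i : X ⟶ Y) [IsClosedImmersion i] [DCoh.HasRpush i] (K : DCoh.D X) (a : ℤ)
    [K.IsLE a] : ((DCoh.Rpush i).obj K).IsLE a := by
  have := Groth.Agent.Sga67.ClosedPush.preservesFiniteColimits_pushforward i
  have h1 : ((Scheme.Modules.pushforward i).mapDerivedCategory.obj K).IsLE a := ExactD.isLE_map _ K a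
  exact DerivedCategory.TStructure.t.isLE_of_iso ((PerfC.LpullFlat.rpushIso i).app K).symm a

/-- Pseudo-coherence restricts to open subschemes. -/
theorem pc_restrictD {U : Scheme.{u}} (j : U ⟶ X) [IsOpenImmersion j] {K : DCoh.D X} (hK : PC K) :
    PC ((DCoh.restrictD j).obj K) := fun m => Groth.Agent.PerfC.PcLocal.pc_restrict j (hK m)

end Gen

section Ring

variable (n : ℕ) (A : Type u) [CommRing A] [DCoh.HasRpush (pr n A)]

/-- `Rπ_*` preserves pseudo-coherence for `π : P^n_A ⟶ Spec A`. -/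
theorem pc_Rpush {K : DCoh.D (CohB1.ProjSpace n A)} (hK : PC K) : PC ((DCoh.Rpush (pr n A)).obj K) := by
  obtain ⟨c, -, hc⟩ := exists_amp (pr n A)
  exact pc_map (DCoh.Rpush (pr n A)) c hc ((pcP _).inverseImage (DCoh.Rpush (pr n A)))
    (topEpi_proj _ (fun d => pc_Rpush_tw n A d)) (fun P hP => hP) hK

end Ring

section Chart

variable {Y : Scheme.{u}} (r : ℕ) {A : Type u} [CommRing A] (h : Spec (CommRingCat.of A) ⟶ Y)
  [IsOpenImmersion h]

/-- `(M ⊗ O(d))|_{P^r_A} ≅ M|_{P^r_A}(d)`. -/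
noncomputable def restrictTwistM (d : ℤ) :
    DCoh.tensorRightMod (Twist.twistOver r Y d) ⋙ Scheme.Modules.restrictFunctor (chart r h) ≅
      Scheme.Modules.restrictFunctor (chart r h) ⋙ twM r A d :=
  tensorRestrict (chart r h) (Twist.twistOver r Y d) ≪≫
    Functor.isoWhiskerLeft _ (TensExact.tensorRightModCongr (restrictTwistIso r h d))

/-- `(K ⊗^L O(d))|_{P^r_A} ≅ K|_{P^r_A}(d)`. -/
noncomputable def restrictTwist (d : ℤ) [DCoh.HasLTensorMod (Twist.twistOver r Y d)] :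
    DCoh.LTensorMod (Twist.twistOver r Y d) ⋙ DCoh.restrictD (chart r h) ≅
      DCoh.restrictD (chart r h) ⋙ twD r A d :=
  haveI : PreservesFiniteLimits (DCoh.tensorRightMod (Twist.twistOver r Y d)) :=
    TensInv.preservesFiniteLimits_of_isInvertible (Ega3B.ProjFrame.isInvertible_twistOver r d)
  Functor.isoWhiskerRight (TensExact.LTensorModIso (Twist.twistOver r Y d)) _ ≪≫
    Dcoh.MapDer.mapDerCompIso (restrictTwistM r h d) ≪≫
      (Dcoh.MapDer.mapDerComp (Scheme.Modules.restrictFunctor (chart r h)) (twM r A d)).symm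

end Chart

/-- The key statement, for an object of `D(P^r_Y)`. -/
theorem exists_bound {Y : Scheme.{u}} [IsAffine Y] (r : ℕ)
    [DCoh.HasRpush (CohB1.ProjSpaceOver.toBase r Y)]
    [∀ n : ℤ, DCoh.HasLTensorMod (Twist.twistOver r Y n)]
    (K : DCoh.D (CohB1.ProjSpaceOver r Y)) (hK : PC K) (a : ℤ) [hKa : K.IsLE a] :
    ∃ N : ℤ, ∀ n : ℤ, N ≤ n →
      PC ((DCoh.Rpush (CohB1.ProjSpaceOver.toBase r Y)).obj
        ((DCoh.LTensorMod (Twist.twistOver r Y n)).obj K)) ∧
      ((DCoh.Rpush (CohB1.ProjSpaceOver.toBase r Y)).obj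
        ((DCoh.LTensorMod (Twist.twistOver r Y n)).obj K)).IsLE a := by
  let A : Type u := Γ(Y, ⊤)
  let h : Spec (CommRingCat.of A) ⟶ Y := Y.isoSpec.inv
  have hh : IsOpenImmersion h := inferInstanceAs (IsOpenImmersion Y.isoSpec.inv)
  have := hasRpush (pr r A)
  obtain ⟨e⟩ := exists_rpushRestrictIso (CohB1.ProjSpaceOver.toBase r Y) (pr r A) (chart r h) h
    (isPullback_chart r h)
  let K' := (DCoh.restrictD (chart r h)).obj K
  have hK' : PC K' := pc_restrictD _ hK
  have hK'a : K'.IsLE a := ExactD.isLE_map _ K a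
  obtain ⟨N, hN⟩ := SerrePC.exists_isLE r A hK' a hK'a
  have hs : ∀ y : Y, ∃ z, h z = y := fun y => by
    refine ⟨Y.isoSpec.hom y, ?_⟩
    change (Y.isoSpec.hom ≫ Y.isoSpec.inv) y = y
    rw [Iso.hom_inv_id]
    rfl
  refine ⟨N, fun n hn => ?_⟩
  let e' : (DCoh.restrictD h).obj ((DCoh.Rpush (CohB1.ProjSpaceOver.toBase r Y)).obj
        ((DCoh.LTensorMod (Twist.twistOver r Y n)).obj K)) ≅
      (DCoh.Rpush (pr r A)).obj ((twD r A n).obj K') :=
    e.app _ ≪≫ (DCoh.Rpush (pr r A)).mapIso ((restrictTwist r h n).app K)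
  constructor
  · intro m
    refine Groth.Agent.PerfC.PcLocal.pc_of_cover _ fun y => ?_
    obtain ⟨z, hz⟩ := hs y
    exact ⟨_, h, hh, z, hz, (PC.of_iso e'.symm (pc_Rpush r A (pc_tw r A n hK'))) m⟩
  · refine Groth.Agent.PerfA.CohExtGlue.isLE_of_restrictD _ a fun y => ?_
    obtain ⟨z, hz⟩ := hs y
    have h1 := hN n hn
    exact ⟨_, h, hh, z, hz, DerivedCategory.TStructure.t.isLE_of_iso e'.symm a⟩

/-- The statement for closed subschemes. -/
theorem main {X Y : Scheme.{u}} [IsAffine Y] (r : ℕ)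
    (i : X ⟶ CohB1.ProjSpaceOver r Y) [IsClosedImmersion i]
    [DCoh.HasRpush i] [DCoh.HasRpush (i ≫ CohB1.ProjSpaceOver.toBase r Y)]
    [∀ n : ℤ, DCoh.HasLTensorMod ((Scheme.Modules.pullback i).obj (Twist.twistOver r Y n))]
    (E : DCoh.D X) (a : ℤ) [E.IsLE a]
    (hE : ∀ m : ℤ, DCoh.IsPseudoCoherentD m ((DCoh.Rpush i).obj E)) :
    ∃ N : ℤ, ∀ n : ℤ, N ≤ n →
      (∀ m : ℤ, DCoh.IsPseudoCoherentD m ((DCoh.Rpush (i ≫ CohB1.ProjSpaceOver.toBase r Y)).obj
        ((DCoh.LTensorMod ((Scheme.Modules.pullback i).obj (Twist.twistOver r Y n))).obj E))) ∧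
      ((DCoh.Rpush (i ≫ CohB1.ProjSpaceOver.toBase r Y)).obj
        ((DCoh.LTensorMod ((Scheme.Modules.pullback i).obj (Twist.twistOver r Y n))).obj E)).IsLE a := by
  have := hasRpush (CohB1.ProjSpaceOver.toBase r Y)
  have hL : ∀ n : ℤ, PicF.IsInvertible (Twist.twistOver r Y n) := fun n =>
    Ega3B.ProjFrame.isInvertible_twistOver r n
  have : ∀ n : ℤ, DCoh.HasLTensorMod (Twist.twistOver r Y n) := fun n =>
    TensInv.hasLTensorMod_of_isInvertible (hL n)
  have hEa : ((DCoh.Rpush i).obj E).IsLE a := isLE_Rpush_closed i E a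
  obtain ⟨N, hN⟩ := exists_bound r ((DCoh.Rpush i).obj E) hE a
  obtain ⟨c⟩ := Groth.Agent.S0922.result i (CohB1.ProjSpaceOver.toBase r Y)
  refine ⟨N, fun n hn => ?_⟩
  obtain ⟨p⟩ := nonempty_projInv i (hL n) E
  let e : (DCoh.Rpush (CohB1.ProjSpaceOver.toBase r Y)).obj
        ((DCoh.LTensorMod (Twist.twistOver r Y n)).obj ((DCoh.Rpush i).obj E)) ≅
      (DCoh.Rpush (i ≫ CohB1.ProjSpaceOver.toBase r Y)).obj
        ((DCoh.LTensorMod ((Scheme.Modules.pullback i).obj (Twist.twistOver r Y n))).obj E) :=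
    (DCoh.Rpush (CohB1.ProjSpaceOver.toBase r Y)).mapIso p ≪≫ c.app _
  obtain ⟨h1, h2⟩ := hN n hn
  exact ⟨fun m => PC.of_iso e h1 m, DerivedCategory.TStructure.t.isLE_of_iso e a⟩

end Groth.Agent.Pic13.H954.Assemble
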