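import Groth.Agent.PerfB.ProjTop
import Groth.Agent.PerfB.ProjBeil

/-!
# Serre vanishing for pseudo-coherent complexes on `P^n_A`, `A` an arbitrary ring

For `K` pseudo-coherent on `P^n_A` and acyclic in degrees `> a`, `Rπ_*(K(d))` is acyclic in degrees `> a`
for all large `d`.
-/

set_option autoImplicit false

universe u

open CategoryTheory CategoryTheory.Limits AlgebraicGeometry Opposite TopologicalSpace Pretriangulated

attribute [local instance] HasDerivedCategory.standard

namespace Groth.Agent.Pic13.H954.SerrePC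

open Groth.Agent Groth.Agent.Dcoh.DerSch Groth.Agent.PerfB
open Groth.Agent.PerfA Groth.Agent.PerfA.ExtZero Groth.Agent.PerfA.Hyp0 Groth.Agent.PerfA.Hyp1
open FlatPull FlatAdj UnitStr TwistDer PcDev PcTop TensD ExactDevissage ProjPush ProjBeil ProjTop

attribute [local instance] rpushCommShift rpush_isTriangulated

section Gen

variable {X S : Scheme.{u}}

/-- `M[-b]` versus `M[0]` under a functor commuting with shifts. -/
theorem isLE_single (F : DCoh.D X ⥤ DCoh.D S) [F.CommShift ℤ] (M : X.Modules)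
    (h : (F.obj (DCoh.inD X M)).IsLE 0) (b : ℤ) :
    (F.obj ((DerivedCategory.singleFunctor X.Modules b).obj M)).IsLE b := by
  let e : (F.obj (DCoh.inD X M))⟦-b⟧ ≅ F.obj ((DerivedCategory.singleFunctor X.Modules b).obj M) :=
    ((F.commShiftIso (-b)).app _).symm ≪≫
      F.mapIso (((DerivedCategory.singleFunctors X.Modules).shiftIso (-b) b 0 (by simp)).app M)
  have h1 : ((F.obj (DCoh.inD X M))⟦-b⟧).IsLE b :=
    DerivedCategory.TStructure.t.isLE_shift _ 0 (-b) b (by omega)
  exact DerivedCategory.TStructure.t.isLE_of_iso e b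

/-- Finite direct sums. -/
theorem isLE_biproduct (F : DCoh.D X ⥤ DCoh.D S) [F.Additive] {J : Type} [Fintype J]
    (M : J → X.Modules) [HasBiproduct M] (b : ℤ)
    (h : ∀ j, (F.obj ((DerivedCategory.singleFunctor X.Modules b).obj (M j))).IsLE b) :
    (F.obj ((DerivedCategory.singleFunctor X.Modules b).obj (⨁ M))).IsLE b := by
  classical
  rw [DerivedCategory.isLE_iff]
  intro i hi
  let G : X.Modules ⥤ S.Modules := DerivedCategory.singleFunctor X.Modules b ⋙ F ⋙
    DerivedCategory.homologyFunctor S.Modules i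
  have hG : G.Additive := inferInstance
  have h0 : ∀ j, IsZero (G.obj (M j)) := fun j =>
    (F.obj ((DerivedCategory.singleFunctor X.Modules b).obj (M j))).isZero_of_isLE b i hi
  change IsZero (G.obj (⨁ M))
  rw [IsZero.iff_id_eq_zero, ← CategoryTheory.Functor.map_id, ← biproduct.total, Functor.map_sum]
  refine Finset.sum_eq_zero fun j _ => ?_
  rw [Functor.map_comp, (h0 j).eq_of_tgt (G.map (biproduct.π M j)) 0, zero_comp]

end Gen

variable {n : ℕ} {A : Type u} [CommRing A]

/-- Finitely many twists mapping onto the top cohomology sheaf of a pseudo-coherent object. -/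
theorem exists_top {K : DCoh.D (CohB1.ProjSpace n A)} (hK : PC K) (b : ℤ) (hb : K.IsLE b) :
    ∃ (J : Type) (_ : Fintype J) (N : J → ℕ) (_ : HasBiproduct fun j => tw n A (-(N j : ℤ)))
      (ψ : (DerivedCategory.singleFunctor _ b).obj (⨁ fun j => tw n A (-(N j : ℤ))) ⟶ K),
      Epi ((DerivedCategory.homologyFunctor (CohB1.ProjSpace n A).Modules b).map ψ) := by
  have hq : Coh.IsQCoh (DCoh.HD K b) := hK.isQCohD b
  let V : Fin (n + 1) → (CohB1.ProjSpace n A).Opens := Vx n A
  have hV : ∀ i, IsAffineOpen (V i) := isAffineOpen_Vx n A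
  have hfin : ∀ i, Module.Finite Γ(CohB1.ProjSpace n A, V i) Γ(DCoh.HD K b, V i) := fun i =>
    CohqB.FiniteType2.finite_sections_of_isFT _ (hK.isFT b) (hV i)
  choose r s hs using fun i => (hfin i).exists_fin
  choose N χ hχ using fun j : (Σ i, Fin (r i)) => exists_map hK.isQCohD b j.1 (s j.1 j.2)
  have : HasFiniteBiproducts (CohB1.ProjSpace n A).Modules := HasFiniteBiproducts.of_hasFiniteProducts
  obtain ⟨ψ, hψ⟩ := exists_sum (fun j : (Σ i, Fin (r i)) => tw n A (-(N j : ℤ))) χ (by
    intro T t ht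
    refine hom_eq_zero_of_span hq V hV (fun x => ProjSpaceCover.exists_mem_basicOpen_X n A x) t
      (fun i => Set.range (s i)) (fun i => hs i) ?_
    rintro i _ ⟨k, rfl⟩
    exact hχ ⟨i, k⟩ T t (ht ⟨i, k⟩))
  exact ⟨_, inferInstance, N, inferInstance, ψ, hψ⟩

theorem pc_sum {J : Type} [Fintype J] (N : J → ℤ) [HasBiproduct fun j => tw n A (N j)] (b : ℤ) :
    PC ((DerivedCategory.singleFunctor _ b).obj (⨁ fun j => tw n A (N j))) := by
  have h : pcP _ (DCoh.inD _ (⨁ fun j => tw n A (N j))) :=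
    ExactDevissage.sg_biproduct (P := pcP _) _ fun j => pc_of_isInvertible (isInvertible_tw n A (N j))
  exact BoundedInd.prop_single (pcP _) _ h b

variable (n A) [DCoh.HasRpush (pr n A)]

/-- `Rπ_* O(d)` is concentrated in degrees `≤ 0` for `d ≥ 0`. -/
theorem isLE_Rpush_tw (d : ℤ) (hd : 0 ≤ d) :
    ((DCoh.Rpush (pr n A)).obj (DCoh.inD _ (tw n A d))).IsLE 0 := by
  have hq : DCoh.IsQCohD (DCoh.inD _ (tw n A d)) := (pc_of_isInvertible (isInvertible_tw n A d)).isQCohD
  have hq' := Groth.Agent.S0998.result (pr n A) _ hq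
  rw [DerivedCategory.isLE_iff]
  intro m hm
  refine isZero_of_top (hq' m) fun s => ?_
  obtain ⟨φ, rfl⟩ := (AffHD.toHD_bijective hq' (isAffineOpen_top _) m).2 s
  have h0 : φ = 0 := by
    apply ((pullAdj (pr n A)).homEquiv _ _).symm.injective
    rw [← cancel_epi (pullP (pr n A) m).inv]
    have hP := P_hom_eq_zero (tw n A d) (fun q => Groth.Agent.S0844.result A n d (q + 1) (by omega) (by omega)) m
      (by omega)
    exact (hP _).trans (hP _).symm
  rw [h0, toHD_zero]

/-- Serre vanishing for pseudo-coherent complexes on `P^n_A`. -/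
theorem exists_isLE {K : DCoh.D (CohB1.ProjSpace n A)} (hK : PC K) (a : ℤ) (ha : K.IsLE a) :
    ∃ N : ℤ, ∀ d : ℤ, N ≤ d → ((DCoh.Rpush (pr n A)).obj ((twD n A d).obj K)).IsLE a := by
  obtain ⟨c, hc0, hc⟩ := exists_amp (pr n A)
  have key : ∀ j : ℕ, ∀ (K : DCoh.D (CohB1.ProjSpace n A)) (b : ℤ), PC K → K.IsLE b → b ≤ a →
      b + c ≤ a + j → ∃ N : ℤ, ∀ d : ℤ, N ≤ d →
        ((DCoh.Rpush (pr n A)).obj ((twD n A d).obj K)).IsLE a := by
    intro j
    induction j with
    | zero =>
      intro K b hK hb _ hbc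
      refine ⟨0, fun d _ => ?_⟩
      have h1 : ((twD n A d).obj K).IsLE b := ExactD.isLE_map _ _ b
      have h2 := hc _ b (isQCohD_tw n A d hK.isQCohD) h1
      exact DerivedCategory.TStructure.t.isLE_of_le _ (b + c) a (by simpa using hbc)
    | succ j ih =>
      intro K b hK hb hba hbc
      obtain ⟨J, _, N, _, φ, hφ⟩ := exists_top hK b hb
      have hPC1 : PC ((DerivedCategory.singleFunctor _ b).obj (⨁ fun j => tw n A (-(N j : ℤ)))) :=
        pc_sum _ b
      obtain ⟨K'', g', h', hT'⟩ := distinguished_cocone_triangle φ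
      have hPC'' : PC K'' := PC.obj₃ hT' hPC1 hK
      have hLE : K''.IsLE (b - 1) := by
        refine PCCone.isLE_obj₃ _ hT' b ?_ hb hφ (b - 1) (by ring)
        change ((DerivedCategory.singleFunctor _ b).obj (⨁ fun j => tw n A (-(N j : ℤ)))).IsLE b
        infer_instance
      obtain ⟨N₁, hN₁⟩ := ih K'' (b - 1) hPC'' hLE (by omega) (by push_cast at hbc; omega)
      refine ⟨max N₁ (∑ j, (N j : ℤ)), fun d hd => ?_⟩
      have h3 := hN₁ d ((le_max_left _ _).trans hd)
      have hd' : ∀ j, (N j : ℤ) ≤ d := fun j =>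
        ((Finset.single_le_sum (f := fun j => (N j : ℤ)) (fun i _ => Int.natCast_nonneg _)
          (Finset.mem_univ j)).trans (le_max_right _ _)).trans hd
      have h1 : ((DCoh.Rpush (pr n A)).obj ((twD n A d).obj
          ((DerivedCategory.singleFunctor _ b).obj (⨁ fun j => tw n A (-(N j : ℤ)))))).IsLE b := by
        refine isLE_biproduct (twD n A d ⋙ DCoh.Rpush (pr n A)) _ b fun j => ?_
        refine isLE_single (twD n A d ⋙ DCoh.Rpush (pr n A)) _ ?_ b
        have h4 := isLE_Rpush_tw n A (-(N j : ℤ) + d) (by have := hd' j; omega)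
        exact DerivedCategory.TStructure.t.isLE_of_iso
          ((DCoh.Rpush (pr n A)).mapIso (twDSingle n A (-(N j : ℤ)) d _ rfl)).symm 0
      have h1' := DerivedCategory.TStructure.t.isLE_of_le ((DCoh.Rpush (pr n A)).obj ((twD n A d).obj
          ((DerivedCategory.singleFunctor _ b).obj (⨁ fun j => tw n A (-(N j : ℤ)))))) b a hba
      exact DerivedCategory.TStructure.t.isLE₂ _
        ((twD n A d ⋙ DCoh.Rpush (pr n A)).map_distinguished _ hT') a h1' h3
  exact key c.toNat K a hK ha le_rfl (by omega)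

end Groth.Agent.Pic13.H954.SerrePC
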